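import Groth.Agent.KrullAkizuki.Basic

/-!
# Krull–Akizuki in a finite extension of the fraction field
-/

universe u

open Pointwise

namespace Groth.Agent.CAlgAkizuki

section Rel

variable {R : Type u} [CommRing R] [IsDomain R] [IsNoetherianRing R] [Ring.KrullDimLE 1 R]
  {K : Type u} [Field K] [Algebra R K] [IsFractionRing R K]

/-- Quotients `M / a M` of submodules of `K^r` are Noetherian. -/
theorem isNoetherian_quotient_smul {a : R} (ha : a ≠ 0) : ∀ (r : ℕ) {M : Type u} [AddCommGroup M]
    [Module R M] (f : M →ₗ[R] (Fin r → K)), Function.Injective f →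
      IsNoetherian R (M ⧸ (a • (⊤ : Submodule R M)))
  | 0, M, _, _, f, hf => by
    haveI : Subsingleton M := hf.subsingleton
    exact isNoetherian_of_finite R _
  | r + 1, M, _, _, f, hf => by
    let g : M →ₗ[R] K := (LinearMap.proj 0).comp f
    let M' := LinearMap.ker g
    let f' : M' →ₗ[R] (Fin r → K) :=
      ((LinearMap.funLeft R K Fin.succ).comp f).comp M'.subtype
    have hf' : Function.Injective f' := fun x y h => by
      refine Subtype.ext (hf (funext fun i => ?_))
      refine Fin.cases ?_ (fun i => congrFun h i) i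
      have hx : g x.1 = 0 := x.2
      have hy : g y.1 = 0 := y.2
      exact hx.trans hy.symm
    haveI := isNoetherian_quotient_smul ha r f' hf'
    let N : Submodule R K := LinearMap.range g
    haveI : IsNoetherian R (↥N ⧸ (a • (⊤ : Submodule R N))) :=
      (isFiniteLength_iff_isNoetherian_isArtinian.1 (Module.length_ne_top_iff.1
        (ne_top_of_le_ne_top (Ring.ord_ne_top (R := R) (mem_nonZeroDivisors_of_ne_zero ha))
          (KrullAkizuki.length_quotient_le N a ha)))).1
    have hle : ∀ {P Q : Type u} [AddCommGroup P] [Module R P] [AddCommGroup Q] [Module R Q]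
        (h : P →ₗ[R] Q), (a • (⊤ : Submodule R P)) ≤ (a • (⊤ : Submodule R Q)).comap h := by
      intro P Q _ _ _ _ h x hx
      obtain ⟨y, -, rfl⟩ := (Submodule.mem_smul_pointwise_iff_exists _ _ _).1 hx
      exact (Submodule.mem_smul_pointwise_iff_exists _ _ _).2
        ⟨h y, Submodule.mem_top, (h.map_smul a y).symm⟩
    refine isNoetherian_of_range_eq_ker (Submodule.mapQ _ _ M'.subtype (hle _))
      (Submodule.mapQ _ _ g.rangeRestrict (hle _)) ?_
    refine le_antisymm ?_ fun w hw => ?_
    · rintro _ ⟨w, rfl⟩
      obtain ⟨x, rfl⟩ := Submodule.Quotient.mk_surjective _ w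
      rw [Submodule.mapQ_apply, LinearMap.mem_ker, Submodule.mapQ_apply,
        show g.rangeRestrict (M'.subtype x) = 0 from Subtype.ext x.2, Submodule.Quotient.mk_zero]
    · obtain ⟨x, rfl⟩ := Submodule.Quotient.mk_surjective _ w
      rw [LinearMap.mem_ker, Submodule.mapQ_apply, Submodule.Quotient.mk_eq_zero] at hw
      obtain ⟨⟨_, z, rfl⟩, -, hz⟩ := (Submodule.mem_smul_pointwise_iff_exists _ _ _).1 hw
      have hk : x - a • z ∈ M' := by
        show g (x - a • z) = 0
        rw [map_sub, map_smul, sub_eq_zero]
        exact (congrArg Subtype.val hz).symm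
      refine ⟨Submodule.Quotient.mk ⟨x - a • z, hk⟩, ?_⟩
      rw [Submodule.mapQ_apply]
      refine (Submodule.Quotient.eq _).2 ((Submodule.mem_smul_pointwise_iff_exists _ _ _).2
        ⟨-z, Submodule.mem_top, ?_⟩)
      simp

end Rel

section Ext

variable {R : Type u} [CommRing R] [IsDomain R] [IsNoetherianRing R] [Ring.KrullDimLE 1 R]
  (K : Type u) [Field K] [Algebra R K] [IsFractionRing R K] {L : Type u} [Field L] [Algebra K L] [FiniteDimensional K L] [Algebra R L]
  [IsScalarTower R K L] (A : Type u) [CommRing A] [Algebra R A] [Algebra A L] [IsScalarTower R A L]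

include K in
theorem isNoetherian_quotient_of_injective (hA : Function.Injective (algebraMap A L)) {a : R} (ha : a ≠ 0) :
    IsNoetherian R (A ⧸ (a • (⊤ : Submodule R A))) :=
  isNoetherian_quotient_smul ha (Module.finrank K L)
    (((Module.finBasis K L).equivFun.restrictScalars R).toLinearMap.comp
      ((IsScalarTower.toAlgHom R A L).toLinearMap))
    ((Module.finBasis K L).equivFun.injective.comp hA)

include R K in
/-- Rings between `R` and a finite extension of its fraction field are Noetherian. -/
theorem isNoetherianRing_of_injective (hA : Function.Injective (algebraMap A L)) :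
    IsNoetherianRing A := by
  classical
  haveI : IsDomain A := hA.isDomain _
  refine (isNoetherianRing_iff_ideal_fg A).2 fun J => ?_
  by_cases hJ : J = ⊥
  · subst hJ; exact Submodule.fg_bot
  obtain ⟨z, hzJ, hz⟩ := Submodule.exists_mem_ne_zero_of_ne_bot hJ
  have halg : IsAlgebraic R z := (isAlgebraic_algHom_iff (IsScalarTower.toAlgHom R A L) hA).1
    ((IsFractionRing.isAlgebraic_iff R K L).2 (Algebra.IsAlgebraic.isAlgebraic _))
  obtain ⟨P, hP0, hPz⟩ := halg
  obtain ⟨i, hi0, hi⟩ := Ideal.exists_coeff_ne_zero_mem_comap_of_root_mem hz hzJ hP0 hPz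
  have hN := isNoetherian_quotient_of_injective K A hA hi0
  set a := P.coeff i with ha
  obtain ⟨S, hS⟩ := hN.noetherian ((J.restrictScalars R).map (Submodule.mkQ _))
  choose! s hsJ hs using fun (y : A ⧸ (a • (⊤ : Submodule R A))) (hy : y ∈ S) =>
    Submodule.mem_map.1 (hS.le (Submodule.subset_span hy))
  refine ⟨insert (algebraMap R A a) (S.image s), ?_⟩
  refine le_antisymm (Submodule.span_le.2 ?_) fun w hw => ?_
  · intro w hw
    rcases Finset.mem_insert.1 hw with rfl | hw
    · exact hi
    · obtain ⟨y, hy, rfl⟩ := Finset.mem_image.1 hw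
      exact hsJ y hy
  let N : Ideal A := Ideal.span ↑(insert (algebraMap R A a) (S.image s))
  have h1 : (Submodule.mkQ (a • (⊤ : Submodule R A))) w ∈
      (N.restrictScalars R).map (Submodule.mkQ _) := by
    refine (show Submodule.span R (S : Set (A ⧸ (a • (⊤ : Submodule R A)))) ≤ _ from Submodule.span_le.2 ?_)
      (hS.ge (Submodule.mem_map_of_mem hw))
    intro y hy
    exact ⟨s y, Ideal.subset_span (Finset.mem_insert_of_mem (Finset.mem_image_of_mem s hy)), hs y hy⟩
  obtain ⟨v, hv, hvw⟩ := Submodule.mem_map.1 h1
  obtain ⟨t, -, ht⟩ := (Submodule.mem_smul_pointwise_iff_exists _ _ _).1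
    ((Submodule.Quotient.eq _).1 hvw)
  have ht' : v - w = algebraMap R A a * t := by rw [← Algebra.smul_def]; exact ht.symm
  rw [show w = v - algebraMap R A a * t by rw [← ht']; ring]
  exact N.sub_mem hv (N.mul_mem_right _ (Ideal.subset_span (Finset.mem_insert_self _ _)))

end Ext

/-- The integral closure of a one-dimensional Noetherian domain in a finite extension. -/
theorem dedekind_facts (A K L B : Type u) [CommRing A] [IsDomain A] [IsNoetherianRing A]
    [Ring.KrullDimLE 1 A] [Field K] [Algebra A K] [IsFractionRing A K] [Field L] [Algebra K L]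
    [FiniteDimensional K L] [Algebra A L] [IsScalarTower A K L]
    [CommRing B] [IsDomain B] [Algebra A B] [Algebra B L] [IsScalarTower A B L] [IsIntegralClosure B A L] :
    IsDedekindDomain B ∧ Function.Surjective (PrimeSpectrum.comap (algebraMap A B)) ∧
      (∀ p : PrimeSpectrum A, (PrimeSpectrum.comap (algebraMap A B) ⁻¹' {p}).Finite) ∧
      ∀ Q : Ideal B, Q.IsMaximal → Module.Finite (A ⧸ Q.comap (algebraMap A B)) (B ⧸ Q) := by
  have hB : Function.Injective (algebraMap B L) := IsIntegralClosure.algebraMap_injective B A L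
  haveI hnoeth : IsNoetherianRing B := isNoetherianRing_of_injective (R := A) K B hB
  haveI : Algebra.IsIntegral A B := IsIntegralClosure.isIntegral_algebra A L
  have hinjAB : Function.Injective (algebraMap A B) := by
    refine Function.Injective.of_comp (f := algebraMap B L) ?_
    rw [← RingHom.coe_comp, ← IsScalarTower.algebraMap_eq, IsScalarTower.algebraMap_eq A K L]
    exact (algebraMap K L).injective.comp (IsFractionRing.injective A K)
  haveI : IsFractionRing B L := IsIntegralClosure.isFractionRing_of_finite_extension A K L B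
  haveI : IsIntegrallyClosed B := IsIntegrallyClosed.of_equiv (R := integralClosure A L) (h := integralClosure.isIntegrallyClosedOfFiniteExtension K) (IsIntegralClosure.equiv A (integralClosure A L) L B).toRingEquiv
  have hmax : ∀ {p : Ideal B}, p ≠ ⊥ → p.IsPrime → (p.comap (algebraMap A B)).IsMaximal ∧
      p.comap (algebraMap A B) ≠ ⊥ := by
    intro p hp0 hp
    obtain ⟨z, hzp, hz⟩ := Submodule.exists_mem_ne_zero_of_ne_bot hp0
    have hne : p.comap (algebraMap A B) ≠ ⊥ :=
      Ideal.comap_ne_bot_of_integral_mem hz hzp (Algebra.IsIntegral.isIntegral z)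
    rcases Ring.krullDimLE_one_iff.1 ‹Ring.KrullDimLE 1 A› _ (hp.comap (algebraMap A B)) with h | h
    · rw [IsDomain.minimalPrimes_eq_singleton_bot] at h
      exact absurd h hne
    · exact ⟨h, hne⟩
  have hdim : Ring.DimensionLEOne B := ⟨fun {p} hp0 hp => by
    haveI := (hmax hp0 hp).1
    exact Ideal.isMaximal_of_isIntegral_of_isMaximal_comap p this⟩
  refine ⟨{ toIsDomain := inferInstance, toIsNoetherian := hnoeth, toDimensionLEOne := hdim,
            toIsIntegralClosure := inferInstance }, ?_, fun p => ?_, fun Q hQ => ?_⟩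
  · intro p
    obtain ⟨Q, -, hQ, hQp⟩ := Ideal.exists_ideal_over_prime_of_isIntegral (S := B) p.asIdeal ⊥ (by
      rw [← RingHom.ker_eq_comap_bot, (RingHom.injective_iff_ker_eq_bot _).1 hinjAB]; exact bot_le)
    exact ⟨⟨Q, hQ⟩, PrimeSpectrum.ext hQp⟩
  · refine Set.Finite.of_finite_image (f := PrimeSpectrum.asIdeal) ?_
      (fun x _ y _ h => PrimeSpectrum.ext h)
    refine (Ideal.finite_minimalPrimes_of_isNoetherianRing B (p.asIdeal.map (algebraMap A B))).subset ?_
    rintro _ ⟨⟨Q, hQ⟩, hQp, rfl⟩
    have hQp' : Q.comap (algebraMap A B) = p.asIdeal := congrArg PrimeSpectrum.asIdeal hQp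
    refine ⟨⟨hQ, Ideal.map_le_iff_le_comap.2 hQp'.ge⟩, fun q ⟨hq, hpq⟩ hqQ => ?_⟩
    by_contra hne
    haveI := hq
    have := Ideal.IsIntegral.comap_lt_comap (R := A) (I := q) (J := Q) (lt_of_le_not_ge hqQ hne)
    rw [hQp'] at this
    exact this.not_ge (Ideal.map_le_iff_le_comap.1 hpq)
  · by_cases hQ0 : Q = ⊥
    · -- then `A` is a field
      subst hQ0
      have hA0 : (⊥ : Ideal A).IsMaximal := by
        have h := Ideal.isMaximal_comap_of_isIntegral_of_isMaximal (R := A) (⊥ : Ideal B)
        rwa [← RingHom.ker_eq_comap_bot, (RingHom.injective_iff_ker_eq_bot _).1 hinjAB] at h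
      have hAK : Function.Surjective (algebraMap A K) := fun z => by
        obtain ⟨a, b, hb, rfl⟩ := IsFractionRing.div_surjective A z
        have hAF : IsField A := MulEquiv.isField
          ((Ideal.Quotient.maximal_ideal_iff_isField_quotient (⊥ : Ideal A)).1 hA0)
          (RingEquiv.quotientBot A).symm.toMulEquiv
        obtain ⟨c, hc⟩ := hAF.mul_inv_cancel (nonZeroDivisors.ne_zero hb)
        refine ⟨a * c, ?_⟩
        have e := congrArg (algebraMap A K) hc
        rw [map_mul, map_one] at e
        rw [map_mul, eq_div_iff ((map_ne_zero_iff _ (IsFractionRing.injective A K)).2 (nonZeroDivisors.ne_zero hb))]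
        linear_combination algebraMap A K a * e
      haveI : Module.Finite A K := Module.Finite.of_surjective (Algebra.linearMap A K) hAK
      haveI : Module.Finite A L := Module.Finite.trans K L
      haveI : IsNoetherian A L := isNoetherian_of_isNoetherianRing_of_finite A L
      haveI : Module.Finite A B :=
        Module.Finite.of_injective (IsScalarTower.toAlgHom A B L).toLinearMap hB
      exact Module.Finite.of_restrictScalars_finite A _ _
    · obtain ⟨hm, hne⟩ := hmax hQ0 hQ.isPrime
      obtain ⟨a, haQ, ha⟩ := Submodule.exists_mem_ne_zero_of_ne_bot hne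
      haveI := isNoetherian_quotient_of_injective K B hB ha
      haveI : Module.Finite A (B ⧸ Q) := by
        refine Module.Finite.of_surjective
          (Submodule.liftQ (a • (⊤ : Submodule A B)) (Ideal.Quotient.mkₐ A Q).toLinearMap ?_) ?_
        · intro x hx
          obtain ⟨y, -, rfl⟩ := (Submodule.mem_smul_pointwise_iff_exists _ _ _).1 hx
          refine Ideal.Quotient.eq_zero_iff_mem.2 ?_
          rw [Algebra.smul_def]
          exact Q.mul_mem_right _ haQ
        · intro y
          obtain ⟨x, rfl⟩ := Ideal.Quotient.mk_surjective y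
          exact ⟨Submodule.Quotient.mk x, rfl⟩
      exact Module.Finite.of_restrictScalars_finite A _ _

end Groth.Agent.CAlgAkizuki
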